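import Groth.Agent.HLVT.Connect
import Groth.Agent.Cohen.Structure
import Groth.Agent.Catenary.Ring
import Groth.Prelude.Def_W4bk5brsh7111920

/-!
Connectedness dimension and subdimension of prime spectra, and the bound of Grothendieck–Faltings.
-/

namespace Groth.Agent.HLVT

universe u

open IsLocalRing PrimeSpectrum

section Top

variable {R : Type u} [CommRing R]

theorem topDim_zeroLocus (I : Ideal R) :
    topologicalKrullDim ↥(zeroLocus (I : Set R)) = ringKrullDim (R ⧸ I) := by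
  have hs : Function.Surjective (Ideal.Quotient.mk I) := Ideal.Quotient.mk_surjective
  have hr : Set.range (comap (Ideal.Quotient.mk I)) = zeroLocus (I : Set R) := by
    rw [range_comap_of_surjective _ _ hs, Ideal.mk_ker]
  have h := (isClosedEmbedding_comap_of_surjective _ _ hs).isEmbedding.toHomeomorph
  rw [← topologicalKrullDim_eq_ringKrullDim]
  exact (IsHomeomorph.topologicalKrullDim_eq _ (h.trans (Homeomorph.setCongr hr)).isHomeomorph).symm

theorem ringKrullDim_quotient_antitone {I J : Ideal R} (h : I ≤ J) : ringKrullDim (R ⧸ J) ≤ ringKrullDim (R ⧸ I) :=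
  ringKrullDim_le_of_surjective (Ideal.Quotient.factor h) (Ideal.Quotient.factor_surjective h)

theorem zeroLocus_mem_irreducibleComponents {p : Ideal R} (hp : p ∈ minimalPrimes R) :
    zeroLocus (p : Set R) ∈ irreducibleComponents (PrimeSpectrum R) := by
  haveI hpp := Ideal.minimalPrimes_isPrime hp
  refine ⟨(isIrreducible_zeroLocus_iff_of_radical _ hpp.isRadical).2 hpp, fun s hs hle x hx => ?_⟩
  have hq := isIrreducible_iff_vanishingIdeal_isPrime.1 hs
  have h1 : vanishingIdeal s ≤ p := by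
    have := vanishingIdeal_anti_mono (R := R) hle
    rwa [vanishingIdeal_zeroLocus_eq_radical, hpp.radical] at this
  have h2 : p ≤ vanishingIdeal s := hp.2 ⟨hq, bot_le⟩ h1
  exact h2.trans fun f hf => (mem_vanishingIdeal _ f).1 hf x hx

theorem subdim_le {p : Ideal R} (hp : p ∈ minimalPrimes R) :
    LocCoh.subdim (PrimeSpectrum R) ≤ ringKrullDim (R ⧸ p) :=
  (iInf₂_le _ (zeroLocus_mem_irreducibleComponents hp)).trans (topDim_zeroLocus p).le

theorem exists_minimal_ge [IsNoetherianRing R] (q : Ideal R) [q.IsPrime] : ∃ p ∈ minimalPrimes R, p ≤ q :=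
  Ideal.exists_minimalPrimes_le bot_le

open scoped Classical in
/-- A splitting of the minimal primes bounds the connectedness dimension. -/
theorem connDim_le_of_split [IsNoetherianRing R] (A B : Finset (Ideal R))
    (hcov : ∀ p ∈ minimalPrimes R, p ∈ A ∨ p ∈ B) (hA : ∃ p ∈ minimalPrimes R, ¬ B.inf id ≤ p)
    (hB : ∃ p ∈ minimalPrimes R, ¬ A.inf id ≤ p) :
    LocCoh.connDim (PrimeSpectrum R) ≤ ringKrullDim (R ⧸ (A.inf id ⊔ B.inf id)) := by
  rw [← topDim_zeroLocus]
  refine iInf₂_le _ ⟨isClosed_zeroLocus _, fun hc => ?_⟩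
  have hmem : ∀ x : PrimeSpectrum R, A.inf id ≤ x.asIdeal ∨ B.inf id ≤ x.asIdeal := fun x => by
    obtain ⟨p, hp, hpx⟩ := exists_minimal_ge x.asIdeal
    exact (hcov p hp).imp (fun h => (Finset.inf_le (f := id) h).trans hpx) fun h => (Finset.inf_le (f := id) h).trans hpx
  obtain ⟨p, hp, hpA⟩ := hA
  obtain ⟨q, hq, hqB⟩ := hB
  obtain ⟨z, hz, hzA, hzB⟩ := isPreconnected_closed_iff.1 hc.isPreconnected (zeroLocus (A.inf id : Ideal R))
    (zeroLocus (B.inf id : Ideal R)) (isClosed_zeroLocus _) (isClosed_zeroLocus _)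
    (fun x _ => hmem x)
    ⟨⟨p, Ideal.minimalPrimes_isPrime hp⟩, fun h => hpA (le_sup_right.trans h),
      (hmem ⟨p, Ideal.minimalPrimes_isPrime hp⟩).resolve_right hpA⟩
    ⟨⟨q, Ideal.minimalPrimes_isPrime hq⟩, fun h => hqB (le_sup_left.trans h),
      (hmem ⟨q, Ideal.minimalPrimes_isPrime hq⟩).resolve_left hqB⟩
  exact hz (SetLike.coe_subset_coe.2 (sup_le (SetLike.coe_subset_coe.1 hzA) (SetLike.coe_subset_coe.1 hzB)))

end Top

variable {R : Type u} [CommRing R] [IsNoetherianRing R] [IsLocalRing R]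

theorem exists_prime_ge_dim (K : Ideal R) {d : ℕ} (hd : ringKrullDim (R ⧸ K) = d) :
    ∃ r : Ideal R, r.IsPrime ∧ K ≤ r ∧ (d : WithBot ℕ∞) ≤ ringKrullDim (R ⧸ r) := by
  obtain ⟨q, hq, hqd⟩ := LocH.exists_prime_quotient_dim ((Module.supportDim_quotient_eq_ringKrullDim K).trans hd)
  exact ⟨q.asIdeal, q.isPrime, LocH.mem_support_quotient_iff.1 hq, hqd⟩

theorem dim_quot_le_of_forall {K : Ideal R} {m : ℕ}
    (h : ∀ r : Ideal R, r.IsPrime → K ≤ r → ringKrullDim (R ⧸ r) ≤ m) : ringKrullDim (R ⧸ K) ≤ m := by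
  by_cases hK : K = ⊤
  · subst hK
    haveI : Subsingleton (R ⧸ (⊤ : Ideal R)) := Ideal.Quotient.subsingleton_iff.2 rfl
    rw [ringKrullDim_eq_bot_of_subsingleton]
    exact bot_le
  · obtain ⟨d, hd⟩ := exists_dim_quot hK
    obtain ⟨r, hr, hKr, hrd⟩ := exists_prime_ge_dim K hd
    rw [hd]
    exact hrd.trans (h r hr hKr)

theorem cdLE_quotient (p : Ideal R) {c : Ideal R} {k : ℕ} (hk : LocCoh.CdLE R c k) :
    LocCoh.CdLE (R ⧸ p) (c.map (Ideal.Quotient.mk p)) k := fun M _ _ i hi => by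
  letI : Module R M := Module.compHom M (Ideal.Quotient.mk p)
  haveI : IsScalarTower R (R ⧸ p) M := ⟨fun r x m => by
    rw [Algebra.smul_def, mul_smul]; rfl⟩
  obtain ⟨φ, -⟩ := LocH.exists_semilinearEquiv (R' := R ⧸ p) (I := c) i M
  haveI : Subsingleton ↑((CategoryTheory.Functor.obj (localCohomology c i)) (ModuleCat.of R M)) := hk M i hi
  exact φ.toEquiv.subsingleton

/-- One component: either it is short or one of the two parts is small on it. -/
theorem component_bound [IsAdicComplete (maximalIdeal R) R] (p a b : Ideal R) [p.IsPrime] (ha : a ≠ ⊤) (hb : b ≠ ⊤)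
    {δ : ℕ} (hδ : ringKrullDim (R ⧸ (a ⊔ b)) = δ) {k : ℕ} (hk : LocCoh.CdLE R (a ⊓ b) k) :
    ringKrullDim (R ⧸ p) ≤ ((δ + k + 1 : ℕ) : WithBot ℕ∞) ∨ ringKrullDim (R ⧸ (p ⊔ a)) ≤ δ ∨
      ringKrullDim (R ⧸ (p ⊔ b)) ≤ δ := by
  have hpm : p ≤ maximalIdeal R := le_maximalIdeal (Ideal.IsPrime.ne_top inferInstance)
  have hne : p ⊔ (a ⊔ b) ≠ ⊤ := ne_top_of_le_ne_top (Ideal.IsPrime.ne_top inferInstance : maximalIdeal R ≠ ⊤)
    (sup_le hpm (sup_le (le_maximalIdeal ha) (le_maximalIdeal hb)))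
  obtain ⟨e, he⟩ := exists_dim_quot hne
  have hed : e ≤ δ := by
    have := ringKrullDim_quotient_antitone (show a ⊔ b ≤ p ⊔ (a ⊔ b) from le_sup_right)
    rw [he, hδ] at this
    exact_mod_cast this
  by_cases h1 : ringKrullDim (R ⧸ (p ⊔ a)) ≤ (δ : WithBot ℕ∞)
  · exact Or.inr (Or.inl h1)
  by_cases h2 : ringKrullDim (R ⧸ (p ⊔ b)) ≤ (δ : WithBot ℕ∞)
  · exact Or.inr (Or.inr h2)
  left
  haveI : IsLocalRing (R ⧸ p) := IsLocalRing.of_surjective' _ Ideal.Quotient.mk_surjective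
  haveI := EGA41FS.isAdicComplete_quotient p
  obtain ⟨n, hn⟩ := exists_dim_quot (Ideal.IsPrime.ne_top inferInstance : p ≠ ⊤)
  let π := Ideal.Quotient.mk p
  have hq : ∀ c : Ideal R, ringKrullDim ((R ⧸ p) ⧸ c.map π) = ringKrullDim (R ⧸ (p ⊔ c)) := fun c =>
    ringKrullDim_eq_of_ringEquiv (DoubleQuot.quotQuotEquivQuotSup p c)
  have hsup : a.map π ⊔ b.map π = (a ⊔ b).map π := (Ideal.map_sup π a b).symm
  have hne' : a.map π ⊔ b.map π ≠ ⊤ := fun h => by
    have h3 := hq (a ⊔ b)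
    rw [← hsup, h, he] at h3
    haveI : Subsingleton ((R ⧸ p) ⧸ (⊤ : Ideal (R ⧸ p))) := Ideal.Quotient.subsingleton_iff.2 rfl
    rw [ringKrullDim_eq_bot_of_subsingleton] at h3
    exact WithBot.natCast_ne_bot e h3.symm
  have hlt : ∀ c : Ideal R, ¬ ringKrullDim (R ⧸ (p ⊔ c)) ≤ (δ : WithBot ℕ∞) →
      (e : WithBot ℕ∞) < ringKrullDim ((R ⧸ p) ⧸ c.map π) := fun c hc => by
    rw [hq]
    exact lt_of_le_of_lt (by exact_mod_cast hed) (not_le.1 hc)
  have hrad : ((a ⊓ b).map π).radical = (a.map π ⊓ b.map π).radical := by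
    refine le_antisymm (Ideal.radical_mono (Ideal.map_inf_le _)) ?_
    rw [Ideal.radical_inf (I := a.map π) (J := b.map π), ← Ideal.radical_mul, ← Ideal.map_mul]
    exact Ideal.radical_mono (Ideal.map_mono Ideal.mul_le_inf)
  have h4 := dim_le_of_domain hn e (a.map π) (b.map π) k hne' (by rw [hsup, hq, he]) (hlt a h1) (hlt b h2)
    (cdLE_of_radical_eq hrad (cdLE_quotient p hk))
  rw [hn]
  exact_mod_cast (show n ≤ δ + k + 1 by omega)

open scoped Classical in
/-- The connectedness bound. -/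
theorem min_le [IsAdicComplete (maximalIdeal R) R] (a b : Ideal R) (ha : a ≠ ⊤) (hb : b ≠ ⊤) {δ : ℕ}
    (hδ : ringKrullDim (R ⧸ (a ⊔ b)) = δ) (hδa : (δ : WithBot ℕ∞) < ringKrullDim (R ⧸ a))
    (hδb : (δ : WithBot ℕ∞) < ringKrullDim (R ⧸ b)) {k : ℕ} (hk : LocCoh.CdLE R (a ⊓ b) k) :
    min (LocCoh.connDim (PrimeSpectrum R) + 1) (LocCoh.subdim (PrimeSpectrum R)) ≤
      ((δ + k + 1 : ℕ) : WithBot ℕ∞) := by
  by_cases hshort : ∃ p ∈ minimalPrimes R, ringKrullDim (R ⧸ p) ≤ ((δ + k + 1 : ℕ) : WithBot ℕ∞)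
  · obtain ⟨p, hp, hpd⟩ := hshort
    exact min_le_of_right_le ((subdim_le hp).trans hpd)
  push Not at hshort
  have hfin := minimalPrimes.finite_of_isNoetherianRing R
  let S := hfin.toFinset
  let A := S.filter fun p => ringKrullDim (R ⧸ (p ⊔ a)) ≤ (δ : WithBot ℕ∞)
  let B := S.filter fun p => ¬ ringKrullDim (R ⧸ (p ⊔ a)) ≤ (δ : WithBot ℕ∞)
  have hBb : ∀ p ∈ B, ringKrullDim (R ⧸ (p ⊔ b)) ≤ (δ : WithBot ℕ∞) := fun p hp => by
    obtain ⟨hpS, hpa⟩ := Finset.mem_filter.1 hp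
    have hp' := hfin.mem_toFinset.1 hpS
    haveI := Ideal.minimalPrimes_isPrime hp'
    rcases component_bound p a b ha hb hδ hk with h | h | h
    · exact absurd h (hshort p hp').not_ge
    · exact absurd h hpa
    · exact h
  have hAa : ∀ p ∈ A, ringKrullDim (R ⧸ (p ⊔ a)) ≤ (δ : WithBot ℕ∞) := fun p hp => (Finset.mem_filter.1 hp).2
  -- a prime over `c` all of whose minimal primes below are small has small dimension
  have small : ∀ (c : Ideal R) (F : Finset (Ideal R)), (∀ p ∈ F, ringKrullDim (R ⧸ (p ⊔ c)) ≤ (δ : WithBot ℕ∞)) →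
      ∀ r : Ideal R, r.IsPrime → F.inf id ≤ r → c ≤ r → ringKrullDim (R ⧸ r) ≤ (δ : WithBot ℕ∞) := by
    intro c F hF r hr hFr hcr
    obtain ⟨p, hp, hpr⟩ := hr.inf_le'.1 hFr
    exact (ringKrullDim_quotient_antitone (sup_le hpr hcr)).trans (hF p hp)
  have notall : ∀ (c : Ideal R) (F : Finset (Ideal R)), (δ : WithBot ℕ∞) < ringKrullDim (R ⧸ c) →
      (∀ p ∈ F, ringKrullDim (R ⧸ (p ⊔ c)) ≤ (δ : WithBot ℕ∞)) → ∃ p ∈ minimalPrimes R, ¬ F.inf id ≤ p := by
    intro c F hc hF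
    by_contra! hall
    refine hc.not_ge (dim_quot_le_of_forall fun r hr hcr => ?_)
    obtain ⟨p, hp, hpr⟩ := exists_minimal_ge r
    exact small c F hF r hr ((hall p hp).trans hpr) hcr
  have hconn := connDim_le_of_split (R := R) A B (fun p hp => by
    by_cases h : ringKrullDim (R ⧸ (p ⊔ a)) ≤ (δ : WithBot ℕ∞)
    · exact Or.inl (Finset.mem_filter.2 ⟨hfin.mem_toFinset.2 hp, h⟩)
    · exact Or.inr (Finset.mem_filter.2 ⟨hfin.mem_toFinset.2 hp, h⟩)) (notall b B hδb hBb) (notall a A hδa hAa)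
  have hbound : ringKrullDim (R ⧸ (A.inf id ⊔ B.inf id)) ≤ ((δ + k : ℕ) : WithBot ℕ∞) := by
    refine dim_quot_le_of_forall fun r hr hle => ?_
    have hne : r ⊔ (a ⊓ b) ≠ ⊤ := ne_top_of_le_ne_top (Ideal.IsPrime.ne_top inferInstance : maximalIdeal R ≠ ⊤)
      (sup_le (le_maximalIdeal hr.ne_top) (inf_le_left.trans (le_maximalIdeal ha)))
    obtain ⟨e, he⟩ := exists_dim_quot hne
    have hed : ringKrullDim (R ⧸ (r ⊔ (a ⊓ b))) ≤ (δ : WithBot ℕ∞) := dim_quot_le_of_forall fun Q hQ hQle => by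
      rcases hQ.inf_le.1 (le_sup_right.trans hQle) with h | h
      · exact small a A hAa Q hQ ((le_sup_left.trans hle).trans (le_sup_left.trans hQle)) h
      · exact small b B hBb Q hQ ((le_sup_right.trans hle).trans (le_sup_left.trans hQle)) h
    rw [he] at hed
    have hed' : e ≤ δ := by exact_mod_cast hed
    exact (dim_le_dim_sup_add_cd e r (a ⊓ b) k hne hk he).trans (by exact_mod_cast (show e + k ≤ δ + k by omega))
  refine min_le_of_left_le ((add_le_add (hconn.trans hbound) le_rfl).trans ?_)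
  push_cast
  rfl

/-- A minimal prime over an ideal generated up to radical by `s` cuts each component by at most `s`. -/
theorem dim_component_le [IsAdicComplete (maximalIdeal R) R] {P p a : Ideal R} [P.IsPrime] [p.IsPrime] (hPp : P ≤ p)
    (hp : p ∈ a.minimalPrimes) (s : Finset R) (hs : (Ideal.span (s : Set R)).radical = a.radical) {z : ℕ}
    (hz : ringKrullDim (R ⧸ p) ≤ (z : WithBot ℕ∞)) : ringKrullDim (R ⧸ P) ≤ ((z + s.card : ℕ) : WithBot ℕ∞) := by
  classical
  haveI : IsLocalRing (R ⧸ P) := IsLocalRing.of_surjective' _ Ideal.Quotient.mk_surjective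
  haveI := EGA41FS.isAdicComplete_quotient P
  let π := Ideal.Quotient.mk P
  haveI : (p.map π).IsPrime := Ideal.map_isPrime_of_surjective Ideal.Quotient.mk_surjective (by rwa [Ideal.mk_ker])
  have hcat := Catenary.isCatenary_of_isUniversallyCatenary (Cohen.isUniversallyCatenary_of_complete (R ⧸ P))
  have h1 := Catenary.height_quotient_add hcat (p.map π) (maximalIdeal (R ⧸ P))
    (le_maximalIdeal (Ideal.IsPrime.ne_top inferInstance))
  haveI : IsLocalRing ((R ⧸ P) ⧸ p.map π) := IsLocalRing.of_surjective' _ Ideal.Quotient.mk_surjective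
  rw [LocH.map_maximalIdeal_of_surjective Ideal.Quotient.mk_surjective] at h1
  have h2 : (p.map π).height ≤ (s.card : ℕ∞) := by
    refine (Ideal.height_le_card_of_mem_minimalPrimes_span_finset (s := s.image π) ?_).trans
      (Nat.cast_le.2 Finset.card_image_le)
    rw [Finset.coe_image, ← Ideal.map_span]
    refine ⟨⟨inferInstance, Ideal.map_mono ?_⟩, fun Q ⟨hQ, hQle⟩ hQp => ?_⟩
    · exact (Ideal.le_radical.trans hs.le).trans (‹p.IsPrime›.radical_le_iff.2 hp.1.2)
    · haveI := hQ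
      have h3 : a ≤ Q.comap π :=
        Ideal.le_radical.trans (hs.ge.trans ((Ideal.IsPrime.isRadical inferInstance).radical_le_iff.2
          (Ideal.map_le_iff_le_comap.1 hQle)))
      have h4 : Q.comap π ≤ p := (Ideal.comap_mono hQp).trans (by
        rw [Ideal.comap_map_of_surjective _ Ideal.Quotient.mk_surjective, ← RingHom.ker_eq_comap_bot, Ideal.mk_ker]
        exact sup_le le_rfl hPp)
      rw [← Ideal.map_comap_of_surjective π Ideal.Quotient.mk_surjective Q]
      exact Ideal.map_mono (hp.2 ⟨inferInstance, h3⟩ h4)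
  rw [← IsLocalRing.maximalIdeal_height_eq_ringKrullDim]
  have h3 : ((maximalIdeal ((R ⧸ P) ⧸ p.map π)).height : WithBot ℕ∞) ≤ ((z : ℕ∞) : WithBot ℕ∞) := by
    rw [IsLocalRing.maximalIdeal_height_eq_ringKrullDim,
      ringKrullDim_eq_of_ringEquiv (DoubleQuot.quotQuotEquivQuotSup P p), sup_eq_right.2 hPp]
    exact hz
  rw [← h1]
  have h4 := add_le_add (WithBot.coe_le_coe.1 h3) h2
  exact_mod_cast h4

open scoped Classical in
/-- The bound for the connectedness dimension of a quotient. -/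
theorem min_le_ara [IsAdicComplete (maximalIdeal R) R] (a : Ideal R) (s : Finset R)
    (hs : (Ideal.span (s : Set R)).radical = a.radical) (Z : Set (PrimeSpectrum (R ⧸ a))) (hZ : IsClosed Z)
    (hZc : ¬ IsConnected Zᶜ) (ha : a ≠ ⊤) :
    min (LocCoh.connDim (PrimeSpectrum R) + 1) (LocCoh.subdim (PrimeSpectrum R)) ≤
      topologicalKrullDim Z + (s.card : WithBot ℕ∞) + 1 := by
  haveI : Nontrivial (R ⧸ a) := Ideal.Quotient.nontrivial_iff.2 ha
  haveI : IsLocalRing (R ⧸ a) := IsLocalRing.of_surjective' _ Ideal.Quotient.mk_surjective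
  let π := Ideal.Quotient.mk a
  have hπ : Function.Surjective π := Ideal.Quotient.mk_surjective
  -- `Z` contains the closed point
  have hZne : closedPoint (R ⧸ a) ∈ Z := by
    by_contra hmem
    have hu : Zᶜ = Set.univ := Set.eq_univ_of_forall fun x =>
      Specializes.mem_open (specializes_closedPoint x) hZ.isOpen_compl hmem
    refine hZc (hu ▸ ⟨⟨closedPoint _, trivial⟩, fun u v hu' hv' huv ⟨x, _, hx⟩ ⟨y, _, hy⟩ => ?_⟩)
    rcases huv (Set.mem_univ (closedPoint (R ⧸ a))) with h | h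
    · exact ⟨y, trivial, Specializes.mem_open (specializes_closedPoint y) hu' h, hy⟩
    · exact ⟨x, trivial, hx, Specializes.mem_open (specializes_closedPoint x) hv' h⟩
  let I := vanishingIdeal Z
  have hI : zeroLocus (I : Set (R ⧸ a)) = Z := by rw [zeroLocus_vanishingIdeal_eq_closure, hZ.closure_eq]
  obtain ⟨z, hz⟩ := exists_dim_quot (R := R ⧸ a) (K := I) fun he => by
    have := hI ▸ hZne
    rw [he] at this
    simp at this
  have hzZ : topologicalKrullDim Z = z := by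
    rw [← hz, ← topDim_zeroLocus, hI]
  rw [hzZ]
  -- a small component
  have short : ∀ P' : Ideal (R ⧸ a), P' ∈ minimalPrimes (R ⧸ a) → ringKrullDim ((R ⧸ a) ⧸ P') ≤ (z : WithBot ℕ∞) →
      min (LocCoh.connDim (PrimeSpectrum R) + 1) (LocCoh.subdim (PrimeSpectrum R)) ≤
        (z : WithBot ℕ∞) + (s.card : WithBot ℕ∞) + 1 := fun P' hP' hd => by
    haveI := Ideal.minimalPrimes_isPrime hP'
    have hp : P'.comap π ∈ a.minimalPrimes := by
      rw [Ideal.minimalPrimes_eq_comap]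
      exact ⟨P', hP', rfl⟩
    obtain ⟨P, hP, hPp⟩ := exists_minimal_ge (P'.comap π)
    haveI := Ideal.minimalPrimes_isPrime hP
    have hd' : ringKrullDim (R ⧸ P'.comap π) ≤ (z : WithBot ℕ∞) := by
      refine le_of_eq_of_le (ringKrullDim_eq_of_ringEquiv ?_) hd
      exact (Ideal.quotEquivOfEq (show P'.comap π = RingHom.ker ((Ideal.Quotient.mk P').comp π) by
        rw [← RingHom.comap_ker, Ideal.mk_ker])).trans
        (RingHom.quotientKerEquivOfSurjective (Ideal.Quotient.mk_surjective.comp hπ))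
    refine (min_le_of_right_le ((subdim_le hP).trans (dim_component_le hPp hp s hs hd'))).trans ?_
    exact_mod_cast (show z + s.card ≤ z + s.card + 1 by omega)
  have hfin := minimalPrimes.finite_of_isNoetherianRing (R ⧸ a)
  by_cases hne : (Zᶜ).Nonempty
  swap
  · obtain ⟨P', hP'⟩ := Ideal.nonempty_minimalPrimes (R := R ⧸ a) (I := ⊥) bot_ne_top
    refine short P' hP' ?_
    haveI := Ideal.minimalPrimes_isPrime hP'
    rw [← hz]
    refine ringKrullDim_quotient_antitone fun f hf => ?_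
    have : (⟨P', inferInstance⟩ : PrimeSpectrum (R ⧸ a)) ∈ Z := by
      by_contra h
      exact hne ⟨_, h⟩
    exact (mem_vanishingIdeal _ f).1 hf _ this
  have hpre : ¬ IsPreconnected Zᶜ := fun h => hZc ⟨hne, h⟩
  rw [isPreconnected_closed_iff] at hpre
  push Not at hpre
  obtain ⟨t, t', ht, ht', hcov, hnt, hnt', hdis⟩ := hpre
  let S := hfin.toFinset
  let A := S.filter fun p : Ideal (R ⧸ a) => zeroLocus (p : Set (R ⧸ a)) ⊆ Z ∪ t
  let B := S.filter fun p : Ideal (R ⧸ a) => ¬ zeroLocus (p : Set (R ⧸ a)) ⊆ Z ∪ t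
  have hBt : ∀ p ∈ B, zeroLocus (p : Set (R ⧸ a)) ⊆ t' := fun p hp => by
    obtain ⟨hpS, hpt⟩ := Finset.mem_filter.1 hp
    haveI hpp := Ideal.minimalPrimes_isPrime (hfin.mem_toFinset.1 hpS)
    have hirr := (isIrreducible_zeroLocus_iff_of_radical _ hpp.isRadical).2 hpp
    refine ((isPreirreducible_iff_isClosed_union_isClosed.1 hirr.isPreirreducible) (Z ∪ t) t' (hZ.union ht) ht'
      fun x _ => ?_).resolve_left hpt
    by_cases hx : x ∈ Z
    · exact Or.inl (Or.inl hx)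
    · exact (hcov hx).imp Or.inr id
  have hAI : ∀ x : PrimeSpectrum (R ⧸ a), A.inf id ≤ x.asIdeal → x ∈ Z ∪ t := fun x hx => by
    obtain ⟨p, hp, hpx⟩ := x.isPrime.inf_le'.1 hx
    exact (Finset.mem_filter.1 hp).2 hpx
  have hBI : ∀ x : PrimeSpectrum (R ⧸ a), B.inf id ≤ x.asIdeal → x ∈ t' := fun x hx => by
    obtain ⟨p, hp, hpx⟩ := x.isPrime.inf_le'.1 hx
    exact hBt p hp hpx
  have hAne : ∃ p, p ∈ A := by
    by_contra! h
    obtain ⟨x, hxZ, hxt⟩ := hnt
    obtain ⟨p, hp, hpx⟩ := exists_minimal_ge x.asIdeal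
    have hpB : p ∈ B := Finset.mem_filter.2 ⟨hfin.mem_toFinset.2 hp, fun hc => h p (Finset.mem_filter.2 ⟨hfin.mem_toFinset.2 hp, hc⟩)⟩
    exact (Set.eq_empty_iff_forall_notMem.1 hdis x) ⟨hxZ, hxt, hBt p hpB hpx⟩
  have hBne : ∃ p, p ∈ B := by
    obtain ⟨x, hxZ, hxt⟩ := hnt'
    obtain ⟨p, hp, hpx⟩ := exists_minimal_ge x.asIdeal
    refine ⟨p, Finset.mem_filter.2 ⟨hfin.mem_toFinset.2 hp, fun hc => ?_⟩⟩
    exact (Set.eq_empty_iff_forall_notMem.1 hdis x) ⟨hxZ, (hc hpx).resolve_left hxZ, hxt⟩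
  -- the two parts
  by_cases hsmall : ringKrullDim ((R ⧸ a) ⧸ A.inf id) ≤ (z : WithBot ℕ∞) ∨ ringKrullDim ((R ⧸ a) ⧸ B.inf id) ≤ (z : WithBot ℕ∞)
  · rcases hsmall with h | h
    · obtain ⟨p, hp⟩ := hAne
      exact short p (hfin.mem_toFinset.1 (Finset.mem_filter.1 hp).1)
        ((ringKrullDim_quotient_antitone (Finset.inf_le (f := id) hp)).trans h)
    · obtain ⟨p, hp⟩ := hBne
      exact short p (hfin.mem_toFinset.1 (Finset.mem_filter.1 hp).1)
        ((ringKrullDim_quotient_antitone (Finset.inf_le (f := id) hp)).trans h)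
  push Not at hsmall
  let a' := (A.inf id).comap π
  let b' := (B.inf id).comap π
  have hdimq : ∀ J : Ideal (R ⧸ a), ringKrullDim (R ⧸ J.comap π) = ringKrullDim ((R ⧸ a) ⧸ J) := fun J =>
    ringKrullDim_eq_of_ringEquiv
      ((Ideal.quotEquivOfEq (show J.comap π = RingHom.ker ((Ideal.Quotient.mk J).comp π) by
        rw [← RingHom.comap_ker, Ideal.mk_ker])).trans
        (RingHom.quotientKerEquivOfSurjective (Ideal.Quotient.mk_surjective.comp hπ)))
  have hne_of : ∀ F : Finset (Ideal (R ⧸ a)), (z : WithBot ℕ∞) < ringKrullDim ((R ⧸ a) ⧸ F.inf id) →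
      (F.inf id).comap π ≠ ⊤ := fun F hF he => by
    have h := hdimq (F.inf id)
    rw [he] at h
    haveI : Subsingleton (R ⧸ (⊤ : Ideal R)) := Ideal.Quotient.subsingleton_iff.2 rfl
    rw [ringKrullDim_eq_bot_of_subsingleton] at h
    rw [← h] at hF
    exact not_lt_bot hF
  have ha' := hne_of A hsmall.1
  have hb' := hne_of B hsmall.2
  obtain ⟨δ, hδ⟩ := exists_dim_quot (ne_top_of_le_ne_top (Ideal.IsPrime.ne_top inferInstance : maximalIdeal R ≠ ⊤)
    (sup_le (le_maximalIdeal ha') (le_maximalIdeal hb')))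
  have hδz : δ ≤ z := by
    have h1 : ringKrullDim ((R ⧸ a) ⧸ (A.inf id ⊔ B.inf id)) ≤ (z : WithBot ℕ∞) := by
      rw [← topDim_zeroLocus, ← hz, ← topDim_zeroLocus, hI]
      refine (Topology.IsEmbedding.inclusion ?_).isInducing.topologicalKrullDim_le
      intro x hx
      have h1 := hAI x (le_sup_left.trans hx)
      have h2 := hBI x (le_sup_right.trans hx)
      by_contra hxZ
      exact (Set.eq_empty_iff_forall_notMem.1 hdis x) ⟨hxZ, h1.resolve_left hxZ, h2⟩
    have h2 : ringKrullDim (R ⧸ (a' ⊔ b')) ≤ ringKrullDim ((R ⧸ a) ⧸ (A.inf id ⊔ B.inf id)) := by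
      rw [← hdimq]
      refine ringKrullDim_quotient_antitone ?_
      have e : A.inf id ⊔ B.inf id = (a' ⊔ b').map π := by
        rw [Ideal.map_sup, Ideal.map_comap_of_surjective π hπ, Ideal.map_comap_of_surjective π hπ]
      rw [e, Ideal.comap_map_of_surjective' π hπ]
      exact sup_le le_rfl (le_sup_of_le_left (Ideal.comap_mono bot_le))
    rw [hδ] at h2
    exact_mod_cast h2.trans h1
  have hrad : (a' ⊓ b').radical = (Ideal.span (s : Set R)).radical := by
    rw [hs]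
    refine le_antisymm ?_ (Ideal.radical_mono ?_)
    · rw [Ideal.radical_le_radical_iff, Ideal.radical_eq_sInf]
      refine le_sInf fun Q ⟨hQ, hQp⟩ x hx => ?_
      haveI := hQp
      haveI : (Q.map π).IsPrime := Ideal.map_isPrime_of_surjective hπ (by rw [Ideal.mk_ker]; exact hQ)
      obtain ⟨p, hp, hpQ⟩ := exists_minimal_ge (Q.map π)
      have hxp : π x ∈ p := by
        by_cases hc : zeroLocus (p : Set (R ⧸ a)) ⊆ Z ∪ t
        · exact (Finset.inf_le (f := id) (Finset.mem_filter.2 ⟨hfin.mem_toFinset.2 hp, hc⟩) : A.inf id ≤ p) hx.1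
        · exact (Finset.inf_le (f := id) (Finset.mem_filter.2 ⟨hfin.mem_toFinset.2 hp, hc⟩) : B.inf id ≤ p) hx.2
      have h := hpQ hxp
      rw [← Ideal.mem_comap, Ideal.comap_map_of_surjective' π hπ, Ideal.mk_ker, sup_eq_left.2 hQ] at h
      exact h
    · intro x hx
      rw [Ideal.mem_inf]
      have h0 : π x = 0 := Ideal.Quotient.eq_zero_iff_mem.2 hx
      refine ⟨Ideal.mem_comap.2 ?_, Ideal.mem_comap.2 ?_⟩ <;> (rw [h0]; exact Ideal.zero_mem _)
  have hlt : ∀ F : Finset (Ideal (R ⧸ a)), (z : WithBot ℕ∞) < ringKrullDim ((R ⧸ a) ⧸ F.inf id) →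
      (δ : WithBot ℕ∞) < ringKrullDim (R ⧸ (F.inf id).comap π) := fun F hF => by
    rw [hdimq]
    exact lt_of_le_of_lt (by exact_mod_cast hδz) hF
  refine (min_le a' b' ha' hb' hδ (hlt A hsmall.1) (hlt B hsmall.2)
    (cdLE_of_radical_eq hrad.symm (LocH.cdLE_card s))).trans ?_
  exact_mod_cast (show δ + s.card + 1 ≤ z + s.card + 1 by omega)

end Groth.Agent.HLVT
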