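import Mathlib
import Groth.Prelude.Def_Wider
import Groth.Agent.H4Easy.Batch37
import Groth.Agent.LocH.Cd
import Groth.Agent.LocH.Radical

/-!
An ideal of cohomological dimension at most one has affine open complement.
-/

set_option autoImplicit false

namespace Groth.Agent.HLVT

universe u

open CategoryTheory AlgebraicGeometry Opposite TopologicalSpace

theorem isAffineOpen_puncturedOpen {A : Type u} [CommRing A] [IsNoetherianRing A] (I : Ideal A)
    (h1 : LocCoh.CdLE A I 1) : IsAffineOpen (LocCoh.puncturedOpen A I) := by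
  classical
  obtain ⟨r, f, hf⟩ := Submodule.fg_iff_exists_fin_generating_family.1 (IsNoetherian.noetherian I)
  have hfI : Ideal.span (Set.range f) = I := hf
  obtain ⟨c, φ, hφ⟩ := H4Easy.exists_splitting_of_cdLE f (hfI.symm ▸ h1)
  let X := Spec (CommRingCat.of A)
  let U : X.Opens := LocCoh.puncturedOpen A I
  let g : A →+* Γ(X, ⊤) := (Scheme.ΓSpecIso (CommRingCat.of A)).inv.hom
  let res : ∀ V : X.Opens, A →+* Γ(X, V) := fun V => (X.presheaf.map (homOfLE le_top : V ⟶ ⊤).op).hom.comp g
  have res_map : ∀ (V W : X.Opens) (i : W ⟶ V) (a : A), X.presheaf.map i.op (res V a) = res W a := fun V W i a => by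
    show (X.presheaf.map _ ≫ X.presheaf.map i.op) (g a) = X.presheaf.map _ (g a)
    rw [← Functor.map_comp]
    rfl
  let D : Fin r → X.Opens := fun k => X.basicOpen (g (f k))
  have hDeq : ∀ k, D k = PrimeSpectrum.basicOpen (f k) := fun k => basicOpen_eq_of_affine (R := CommRingCat.of A) (f k)
  have hDU : ∀ k, D k ≤ U := fun k x hx hxI => by
    rw [hDeq] at hx
    exact hx (hxI (hfI ▸ Ideal.subset_span ⟨k, rfl⟩))
  have hcov : U ≤ iSup D := fun x hx => by
    rw [Opens.mem_iSup]
    by_contra! h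
    refine hx ?_
    show (I : Set A) ⊆ x.asIdeal
    rw [← hfI]
    refine Ideal.span_le.2 ?_
    rintro _ ⟨k, rfl⟩
    by_contra hk
    exact h k ((hDeq k).symm ▸ hk)
  have hu : ∀ (k : Fin r) (W : X.Opens), W ≤ D k → IsUnit (res W (f k)) := fun k W hW => by
    have h := (X.toRingedSpace.isUnit_res_basicOpen (g (f k)))
    have h' := h.map (X.presheaf.map (homOfLE hW).op).hom
    rw [← res_map (D k) W (homOfLE hW)]
    exact h'
  let e : ∀ k : Fin r, ↥(Ideal.span (Set.range f) ^ (c + 1)) :=
    fun k => ⟨f k ^ (c + 1), Ideal.pow_mem_pow (Ideal.subset_span (Set.mem_range_self k)) _⟩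
  have hsym : ∀ (j k l : Fin r), f k ^ (c + 1) * φ j (e l) = f l ^ (c + 1) * φ j (e k) := fun j k l => by
    rw [← smul_eq_mul, ← map_smul, ← smul_eq_mul, ← map_smul]
    exact congrArg _ (Subtype.ext (mul_comm _ _))
  let loc : ∀ (_ : Fin r) (k : Fin r), Γ(X, D k) := fun j k =>
    res (D k) (φ j (e k)) * ↑(((hu k (D k) le_rfl).pow (c + 1)).unit⁻¹)
  have hloc : ∀ j k, res (D k) (f k) ^ (c + 1) * loc j k = res (D k) (φ j (e k)) := fun j k => by
    rw [mul_left_comm]
    simp only [← map_pow]
    rw [IsUnit.mul_val_inv, mul_one]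
  have hcompat : ∀ j, TopCat.Presheaf.IsCompatible X.presheaf D (loc j) := fun j k l => by
    refine ((hu k _ inf_le_left).pow (c + 1)).mul_left_cancel ((((hu l _ inf_le_right).pow (c + 1))).mul_left_cancel ?_)
    have h1 := congrArg (X.presheaf.map (Opens.infLELeft (D k) (D l)).op) (hloc j k)
    have h2 := congrArg (X.presheaf.map (Opens.infLERight (D k) (D l)).op) (hloc j l)
    rw [map_mul, map_pow, res_map, res_map] at h1 h2
    rw [h1, mul_left_comm, h2, ← map_pow, ← map_pow, ← map_mul, ← map_mul, hsym]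
  have hglue : ∀ j, ∃ s : Γ(X, U), ∀ k, X.presheaf.map (homOfLE (hDU k)).op s = loc j k := fun j =>
    (X.sheaf.existsUnique_gluing' D U (fun k => homOfLE (hDU k)) hcov (loc j) (hcompat j)).exists
  choose s hs using hglue
  have hone : ∑ j, res U (f j) * s j = 1 := by
    refine X.sheaf.eq_of_locally_eq' D U (fun k => homOfLE (hDU k)) hcov _ _ fun k => ?_
    show X.presheaf.map (homOfLE (hDU k)).op (∑ j, res U (f j) * s j) = X.presheaf.map (homOfLE (hDU k)).op 1
    rw [map_sum, map_one]
    refine ((hu k (D k) le_rfl).pow (c + 1)).mul_left_cancel ?_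
    simp only [map_mul, res_map, hs, Finset.mul_sum, mul_one]
    rw [Finset.sum_congr rfl fun j _ => by rw [mul_left_comm, hloc, ← map_mul], ← map_sum, ← hφ (e k), map_pow]
  refine isAffineOpen_of_isAffineOpen_basicOpen U (Set.range fun j => res U (f j)) ?_ ?_
  · rw [Ideal.eq_top_iff_one, ← hone]
    exact Ideal.sum_mem _ fun j _ => Ideal.mul_mem_right _ _ (Ideal.subset_span ⟨j, rfl⟩)
  · rintro _ ⟨j, rfl⟩
    show IsAffineOpen (X.basicOpen (res U (f j)))
    rw [show res U (f j) = X.presheaf.map (homOfLE le_top).op (g (f j)) from rfl, X.basicOpen_res]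
    rw [show U ⊓ X.basicOpen (g (f j)) = X.basicOpen (g (f j)) from inf_eq_right.2 (hDU j)]
    exact (isAffineOpen_top X).basicOpen _

theorem nonempty_puncturedOpen {A : Type u} [CommRing A] [IsNoetherianRing A] (I : Ideal A)
    (h0 : ¬ LocCoh.CdLE A I 0) : Nonempty (↑(LocCoh.puncturedOpen A I) : Scheme.{u}) := by
  by_contra hne
  refine h0 fun M _ _ i hi => ?_
  have hrad : (⊥ : Ideal A).radical = I.radical := by
    refine le_antisymm (Ideal.radical_mono bot_le) (Ideal.radical_le_radical_iff.2 ?_)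
    rw [Ideal.radical_eq_sInf]
    refine le_sInf fun p ⟨_, hp⟩ => ?_
    by_contra hIp
    exact hne ⟨⟨⟨p, hp⟩, hIp⟩⟩
  refine (LocH.subsingleton_iff_of_radical_eq hrad M i).1 ?_
  have h := LocH.cdLE_card (∅ : Finset A)
  rw [Finset.coe_empty, Ideal.span_empty] at h
  exact h M i (by simpa using hi)

end Groth.Agent.HLVT
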