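import Groth.Agent.HLVT.Core

/-!
Hartshorne–Lichtenbaum vanishing for complete local domains, and dévissage to primes of top dimension.
-/

namespace Groth.Agent.HLVT

universe u

open CategoryTheory IsLocalRing RingTheory.Sequence

/-- A complete local domain is a quotient of a complete Gorenstein ring of the same dimension. -/
theorem exists_gorenstein_cover (R : Type u) [CommRing R] [IsDomain R] [IsNoetherianRing R] [IsLocalRing R]
    [IsAdicComplete (maximalIdeal R) R] :
    ∃ (G : Type u) (_ : CommRing G) (_ : LocCoh.IsGorensteinLocalRing G) (f : G →+* R),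
      IsAdicComplete (maximalIdeal G) G ∧ Function.Surjective f ∧ ringKrullDim G = ringKrullDim R := by
  obtain ⟨Λ, _, N, g, hΛ, hg⟩ := Cohen.exists_presentation R (IsNoetherian.noetherian _)
  haveI : IsRegularLocalRing Λ := Cohen.isRegularLocalRing_coeff hΛ
  haveI : IsAdicComplete (maximalIdeal Λ) Λ := by
    rcases hΛ with hf | ⟨_, _, hc, -⟩
    · rw [IsLocalRing.isField_iff_maximalIdeal_eq.mp hf]
      infer_instance
    · exact hc
  let S := MvPowerSeries (Fin N) Λ
  haveI : IsRegularLocalRing S := Cohen.isRegularLocalRing_mvPowerSeries Λ N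
  haveI : IsAdicComplete (maximalIdeal S) S := ArtKit.isAdicComplete_mvPowerSeries
  haveI : LocCoh.IsGorensteinLocalRing S := Goren.isGorenstein_of_regular S
  haveI := Goren.isCohenMacaulay S
  obtain ⟨D, hD⟩ := SerreReg.exists_dim_nat S
  haveI : (RingHom.ker g).IsPrime := RingHom.ker_isPrime g
  obtain ⟨rs, hw, hmem, hlen⟩ := CMFlat.exists_regular_of_prime D S hD (RingHom.ker g)
  have hlen' := le_antisymm hlen (Catenary.length_le_height hw (RingHom.ker g) hmem)
  have hm : ∀ r ∈ rs, r ∈ maximalIdeal S := fun r hr =>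
    le_maximalIdeal (RingHom.ker_ne_top g) (hmem r hr)
  have hle : Ideal.ofList rs ≤ RingHom.ker g := Ideal.span_le.mpr hmem
  haveI : Nontrivial (S ⧸ Ideal.ofList rs) := Ideal.Quotient.nontrivial_iff.2
    (ne_top_of_le_ne_top (RingHom.ker_ne_top g) hle)
  haveI : IsLocalRing (S ⧸ Ideal.ofList rs) := IsLocalRing.of_surjective' _ Ideal.Quotient.mk_surjective
  refine ⟨S ⧸ Ideal.ofList rs, inferInstance, (Goren.gorenstein_iff_quot_list _ S rs rfl hw hm).1 inferInstance,
    Ideal.Quotient.lift _ g fun a ha => hle ha, EGA41FS.isAdicComplete_quotient _,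
    Ideal.Quotient.lift_surjective_of_surjective _ _ hg, ?_⟩
  have h1 := ringKrullDim_add_length_eq_ringKrullDim_of_isRegular rs
    ((IsLocalRing.isRegular_iff_isWeaklyRegular_of_subset_maximalIdeal hm).2 hw)
  have h2 := Catenary.height_add_dim (RingHom.ker g)
  rw [ringKrullDim_eq_of_ringEquiv (RingHom.quotientKerEquivOfSurjective hg), hlen', ← h1] at h2
  obtain ⟨a, ha⟩ := SerreReg.exists_dim_nat (S ⧸ Ideal.ofList rs)
  obtain ⟨c, hc⟩ := SerreReg.exists_dim_nat R
  rw [ha, hc] at h2 ⊢
  have h3 : ((c + rs.length : ℕ) : WithBot ℕ∞) = ((a + rs.length : ℕ) : WithBot ℕ∞) := by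
    push_cast
    exact_mod_cast h2
  have h4 : c + rs.length = a + rs.length := by exact_mod_cast h3
  rw [show a = c by omega]

theorem map_eq_of_equiv {R : Type u} [CommRing R] {M N : Type u} [AddCommGroup M] [Module R M] [AddCommGroup N]
    [Module R N] (I : Ideal R) (i : ℕ) (e : M ≃ₗ[R] N) (h : Subsingleton (LocCoh.H I i M)) :
    Subsingleton (LocCoh.H I i N) :=
  (((localCohomology I i).mapIso e.toModuleIso).toLinearEquiv.symm).toEquiv.subsingleton

/-- Vanishing at a prime of dimension one of a complete local domain. -/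
theorem subsingleton_H_of_dim_one (R : Type u) [CommRing R] [IsDomain R] [IsNoetherianRing R] [IsLocalRing R]
    [IsAdicComplete (maximalIdeal R) R] {n : ℕ} (hn : ringKrullDim R = n) (p : Ideal R) [p.IsPrime]
    (hp : ringKrullDim (R ⧸ p) = 1) : Subsingleton (LocCoh.H p n R) := by
  obtain ⟨e, rfl⟩ : ∃ e, n = e + 1 := by
    refine ⟨n - 1, ?_⟩
    have h := ringKrullDim_quotient_le p
    rw [hp, hn] at h
    have : 1 ≤ n := by exact_mod_cast h
    omega
  obtain ⟨G, _, _, f, hG, hf, hdim⟩ := exists_gorenstein_cover R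
  haveI := hG
  letI := f.toAlgebra
  haveI : (RingHom.ker f).IsPrime := RingHom.ker_isPrime f
  let q := p.comap f
  let qR := RingHom.quotientKerEquivOfSurjective
    (f := (Ideal.Quotient.mk p).comp f) (Ideal.Quotient.mk_surjective.comp hf)
  have hq : ringKrullDim (G ⧸ q) = 1 := by
    rw [show q = RingHom.ker ((Ideal.Quotient.mk p).comp f) by rw [← RingHom.comap_ker, Ideal.mk_ker],
      ringKrullDim_eq_of_ringEquiv qR, hp]
  have h := subsingleton_H_quotient (hdim.trans hn) q hq (RingHom.ker f) fun x hx => by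
    show f x ∈ p
    rw [RingHom.mem_ker.1 hx]
    exact p.zero_mem
  have h' : Subsingleton (LocCoh.H q (e + 1) R) :=
    map_eq_of_equiv q (e + 1) (LinearEquiv.ofBijective ((RingHom.ker f).liftQ (Algebra.linearMap G R) le_rfl)
      ⟨LinearMap.ker_eq_bot.1 (Submodule.ker_liftQ_eq_bot _ _ _ le_rfl), fun r => ?_⟩) h
  swap
  · obtain ⟨x, rfl⟩ := hf r
    exact ⟨Submodule.Quotient.mk x, rfl⟩
  have hpq : q.map f = p := Ideal.map_comap_of_surjective f hf p
  obtain ⟨φ, -⟩ := LocH.exists_semilinearEquiv (R' := R) (I := q) (e + 1) R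
  have h2 : Subsingleton (LocCoh.H (q.map (algebraMap G R)) (e + 1) R) := φ.toEquiv.subsingleton
  rwa [show q.map (algebraMap G R) = p from hpq] at h2

/-- The vanishing theorem for a complete local domain. -/
theorem subsingleton_H_of_domain (R : Type u) [CommRing R] [IsDomain R] [IsNoetherianRing R] [IsLocalRing R]
    [IsAdicComplete (maximalIdeal R) R] {n : ℕ} (hn : ringKrullDim R = n) (I : Ideal R)
    (hI : 0 < ringKrullDim (R ⧸ I)) : Subsingleton (LocCoh.H I n R) := by
  obtain ⟨p, hp, hIp, hp1⟩ := LocH.exists_prime_dim_one_ge I hI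
  haveI := hp
  exact LocH.subsingleton_top_of_le hn hIp (le_maximalIdeal hp.ne_top) R (subsingleton_H_of_dim_one R hn p hp1)

section Devissage

variable {R : Type u} [CommRing R] [IsNoetherianRing R] (I : Ideal R) {d : ℕ}

/-- Top vanishing reduces to the quotients by primes of top dimension. -/
theorem subsingleton_of_forall_prime (hd : ringKrullDim R ≤ d)
    (h : ∀ p : Ideal R, p.IsPrime → ringKrullDim (R ⧸ p) = d → Subsingleton (LocCoh.H I d (R ⧸ p)))
    (M : Type u) [AddCommGroup M] [Module R M] (i : ℕ) (hi : d ≤ i) : Subsingleton (LocCoh.H I i M) := by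
  obtain hlt | rfl := hi.lt_or_eq
  · exact LocH.cdLE_of_ringKrullDim_le I d hd M i hlt
  refine subsingleton_of_forall_eq 0 fun x => ?_
  obtain ⟨M₀, hM₀, y, rfl⟩ := LocH.exists_fg_map_eq (ModuleCat.of R M) d x
  have key : Subsingleton (LocCoh.H I d M₀) := by
    refine IsNoetherianRing.induction_on_isQuotientEquivQuotientPrime R (M := M₀)
      (Module.Finite.iff_fg.2 hM₀) (motive := fun N => Subsingleton (LocCoh.H I d N)) ?_ ?_ ?_
    · intro N _ _ _ _
      exact LocH.subsingleton_of_subsingleton (ModuleCat.of R N) d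
    · intro N _ _ _ p e
      refine map_eq_of_equiv I d e.symm ?_
      obtain hlt | heq := ((ringKrullDim_quotient_le p.1).trans hd).lt_or_eq
      · exact LocH.subsingleton_of_supportDim_lt I d _ (by rwa [Module.supportDim_quotient_eq_ringKrullDim])
      · exact h p.1 p.2 heq
    · intro N₁ _ _ _ N₂ _ _ _ N₃ _ _ _ f g hf hg hfg h1 h3
      refine subsingleton_of_forall_eq 0 fun z => ?_
      let S : ShortComplex (ModuleCat.{u} R) := ShortComplex.mk (ModuleCat.ofHom f) (ModuleCat.ofHom g)
        (ModuleCat.hom_ext hfg.linearMap_comp_eq_zero)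
      have hS : S.ShortExact :=
        { exact := (ShortComplex.ShortExact.moduleCat_exact_iff_function_exact S).2 hfg
          mono_f := (ModuleCat.mono_iff_injective _).2 hf
          epi_g := (ModuleCat.epi_iff_surjective _).2 hg }
      obtain ⟨w, rfl⟩ := LocH.exact₂ hS d (x := z) (h3.elim _ _)
      exact (congrArg _ (h1.elim w 0)).trans (map_zero _)
  exact (congrArg _ (key.elim y 0)).trans (map_zero _)

end Devissage

/-- The vanishing theorem for a complete local ring. -/
theorem subsingleton_H_of_complete (A : Type u) [CommRing A] [IsNoetherianRing A] [IsLocalRing A]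
    [IsAdicComplete (maximalIdeal A) A] {d : ℕ} (hd : ringKrullDim A = d) (I : Ideal A)
    (h : ∀ p ∈ minimalPrimes A, ringKrullDim (A ⧸ p) = d → 1 ≤ ringKrullDim (A ⧸ (I ⊔ p)))
    (M : Type u) [AddCommGroup M] [Module A M] (i : ℕ) (hi : d ≤ i) : Subsingleton (LocCoh.H I i M) := by
  refine subsingleton_of_forall_prime I hd.le (fun p hp hpd => ?_) M i hi
  have hmin : p ∈ minimalPrimes A := by
    haveI := hp
    rw [← Ideal.height_eq_zero_iff]
    have h1 := CMFlat.ringKrullDim_quotient_add_le p
    rw [hpd, hd] at h1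
    have h2 : ((d : ℕ∞) + p.height : ℕ∞) ≤ (d : ℕ∞) := by exact_mod_cast h1
    cases hh : p.height with
    | top => rw [hh] at h2; simp at h2
    | coe k =>
      rw [hh] at h2
      have h3 : d + k ≤ d := by exact_mod_cast h2
      exact_mod_cast show k = 0 by omega
  haveI := hp
  haveI : IsLocalRing (A ⧸ p) := IsLocalRing.of_surjective' _ Ideal.Quotient.mk_surjective
  haveI := EGA41FS.isAdicComplete_quotient p
  have h1 := subsingleton_H_of_domain (A ⧸ p) hpd (I.map (algebraMap A (A ⧸ p))) (by
    rw [Ideal.Quotient.algebraMap_eq, ringKrullDim_eq_of_ringEquiv (DoubleQuot.quotQuotEquivQuotSup p I), sup_comm]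
    exact zero_lt_one.trans_le (h p hmin hpd))
  obtain ⟨φ, -⟩ := LocH.exists_semilinearEquiv (R' := A ⧸ p) (I := I) d (A ⧸ p)
  exact φ.symm.toEquiv.subsingleton

end Groth.Agent.HLVT
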