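import Groth.Agent.HLVT.Complete
import Groth.Agent.LocH.CdSup
import Groth.Agent.LocH.MayerVietoris

/-!
Cohomological dimension and the dimension of intersections (Faltings' connectedness bound).
-/

namespace Groth.Agent.HLVT

universe u

open CategoryTheory IsLocalRing

variable {R : Type u} [CommRing R] [IsNoetherianRing R] [IsLocalRing R]

theorem exists_dim_quot {K : Ideal R} (hK : K ≠ ⊤) : ∃ d : ℕ, ringKrullDim (R ⧸ K) = d := by
  haveI : Nontrivial (R ⧸ K) := Ideal.Quotient.nontrivial_iff.2 hK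
  haveI : IsLocalRing (R ⧸ K) := IsLocalRing.of_surjective' _ Ideal.Quotient.mk_surjective
  exact SerreReg.exists_dim_nat _

omit [IsNoetherianRing R] in
theorem sup_ne_top {K : Ideal R} (hK : K ≠ ⊤) {x : R} (hx : x ∈ maximalIdeal R) : K ⊔ Ideal.span {x} ≠ ⊤ :=
  ne_top_of_le_ne_top (Ideal.IsPrime.ne_top inferInstance : maximalIdeal R ≠ ⊤)
    (sup_le (le_maximalIdeal hK) ((Ideal.span_singleton_le_iff_mem _).2 hx))

theorem supportDim_quotSMulTop_quotient (K : Ideal R) (x : R) :
    Module.supportDim R (QuotSMulTop x (R ⧸ K)) = ringKrullDim (R ⧸ (K ⊔ Ideal.span {x})) := by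
  rw [← Module.supportDim_quotient_eq_ringKrullDim]
  have h : Module.support R (QuotSMulTop x (R ⧸ K)) = Module.support R (R ⧸ (K ⊔ Ideal.span {x})) := by
    rw [Module.support_quotSMulTop, Module.support_eq_zeroLocus, Module.support_eq_zeroLocus,
      Ideal.annihilator_quotient, Ideal.annihilator_quotient, ← PrimeSpectrum.zeroLocus_span {x},
      PrimeSpectrum.zeroLocus_sup]
  rw [Module.supportDim, Module.supportDim, h]

theorem dim_le_dim_sup_span_add_one (K : Ideal R) {x : R} (hx : x ∈ maximalIdeal R) :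
    ringKrullDim (R ⧸ K) ≤ ringKrullDim (R ⧸ (K ⊔ Ideal.span {x})) + 1 := by
  rw [← Module.supportDim_quotient_eq_ringKrullDim K, ← supportDim_quotSMulTop_quotient]
  exact Module.supportDim_le_supportDim_quotSMulTop_succ hx

theorem exists_mem_dim_lt {K : Ideal R} {δ : ℕ} (hδ : ringKrullDim (R ⧸ K) = (δ + 1 : ℕ)) :
    ∃ x ∈ maximalIdeal R, ringKrullDim (R ⧸ (K ⊔ Ideal.span {x})) ≤ δ := by
  classical
  have hfin := Ideal.finite_minimalPrimes_of_isNoetherianRing R K
  obtain ⟨x, hx, hxp⟩ : ∃ x ∈ maximalIdeal R, ∀ p ∈ K.minimalPrimes, x ∉ p := by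
    by_contra! hc
    have hsub : (maximalIdeal R : Set R) ⊆ ⋃ p ∈ (hfin.toFinset : Set (Ideal R)), (p : Set R) := fun a ha => by
      obtain ⟨p, hp, hap⟩ := hc a ha
      exact Set.mem_biUnion (hfin.mem_toFinset.2 hp) hap
    obtain ⟨p, hp, hle⟩ := (Ideal.subset_union_prime (R := R) (f := fun p : Ideal R => p) ⊥ ⊥
      (fun i hi _ _ => (hfin.mem_toFinset.1 hi).isPrime)).1 hsub
    have hp' := hfin.mem_toFinset.1 hp
    have hpm : p = maximalIdeal R := le_antisymm (le_maximalIdeal hp'.isPrime.ne_top) hle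
    have hall : ringKrullDim (R ⧸ K) ≤ 0 := by
      rw [ringKrullDim_quotient, Order.krullDim_nonpos_iff_forall_isMin]
      intro a b hb
      have ha : a.1.asIdeal ≤ maximalIdeal R := le_maximalIdeal a.1.isPrime.ne_top
      exact show a.1.asIdeal ≤ b.1.asIdeal from ha.trans (hpm ▸ hp'.2 ⟨b.1.isPrime, b.2⟩
        (hpm ▸ le_maximalIdeal b.1.isPrime.ne_top))
    rw [hδ] at hall
    exact absurd (show δ + 1 ≤ 0 by exact_mod_cast hall) (Nat.not_succ_le_zero δ)
  refine ⟨x, hx, ?_⟩
  have h := Module.supportDim_quotSMulTop_succ_le_of_notMem_minimalPrimes (R := R) (M := R ⧸ K) (x := x)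
    (by rwa [Ideal.annihilator_quotient])
  rw [supportDim_quotSMulTop_quotient, Module.supportDim_quotient_eq_ringKrullDim, hδ] at h
  obtain ⟨c, hc⟩ := exists_dim_quot (sup_ne_top (fun he => by
    subst he
    haveI : Subsingleton (R ⧸ (⊤ : Ideal R)) := Ideal.Quotient.subsingleton_iff.2 rfl
    rw [ringKrullDim_eq_bot_of_subsingleton] at hδ
    exact absurd hδ (WithBot.natCast_ne_bot (δ + 1)).symm) hx : K ⊔ Ideal.span {x} ≠ ⊤)
  rw [hc] at h ⊢
  have h1 : ((c + 1 : ℕ) : WithBot ℕ∞) ≤ ((δ + 1 : ℕ) : WithBot ℕ∞) := by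
    refine le_trans (le_of_eq ?_) h
    push_cast; rfl
  have h2 : c + 1 ≤ δ + 1 := by exact_mod_cast h1
  exact_mod_cast (show c ≤ δ by omega)

theorem radical_eq_maximalIdeal {K : Ideal R} (hK : K ≠ ⊤) (hdim : ringKrullDim (R ⧸ K) ≤ 0) :
    K.radical = maximalIdeal R := by
  refine le_antisymm ((Ideal.IsPrime.isRadical inferInstance).radical_le_iff.2 (le_maximalIdeal hK)) ?_
  rw [Ideal.radical_eq_sInf]
  refine le_sInf fun Q ⟨hle, hQ⟩ => ?_
  by_contra hne
  have h1 : (1 : WithBot ℕ∞) ≤ ringKrullDim (R ⧸ K) := by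
    rw [ringKrullDim_quotient]
    refine Order.one_le_krullDim_iff.2 ⟨⟨⟨Q, hQ⟩, hle⟩,
      ⟨⟨maximalIdeal R, inferInstance⟩, hle.trans (le_maximalIdeal hQ.ne_top)⟩, ?_⟩
    exact lt_of_le_not_ge (le_maximalIdeal hQ.ne_top) hne
  exact absurd (h1.trans hdim) (by simp)

theorem cdLE_of_radical_eq {I K : Ideal R} (h : I.radical = K.radical) {k : ℕ} (hI : LocCoh.CdLE R I k) :
    LocCoh.CdLE R K k :=
  fun M _ _ i hi => (LocH.subsingleton_iff_of_radical_eq h M i).1 (hI M i hi)

theorem cdLE_sup_span {I : Ideal R} {k : ℕ} (hI : LocCoh.CdLE R I k) (x : R) :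
    LocCoh.CdLE R (I ⊔ Ideal.span {x}) (k + 1) := by
  refine LocH.cdLE_sup hI ?_
  have h := LocH.cdLE_card ({x} : Finset R)
  rwa [Finset.coe_singleton, Finset.card_singleton] at h

/-- Adding an ideal cuts the dimension down by at most its cohomological dimension. -/
theorem dim_le_dim_sup_add_cd : ∀ (δ : ℕ) (r c : Ideal R) (k : ℕ), r ⊔ c ≠ ⊤ → LocCoh.CdLE R c k →
    ringKrullDim (R ⧸ (r ⊔ c)) = δ → ringKrullDim (R ⧸ r) ≤ ((δ + k : ℕ) : WithBot ℕ∞) := by
  intro δ
  induction δ using Nat.strong_induction_on with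
  | _ δ ih =>
    intro r c k hne hk hδ
    obtain _ | δ := δ
    · obtain ⟨N, hN⟩ := exists_dim_quot (ne_top_of_le_ne_top hne le_sup_left)
      rw [hN]
      by_contra hlt
      have hkN : k < N := by
        rw [not_le, zero_add] at hlt
        exact_mod_cast hlt
      have hrad := radical_eq_maximalIdeal hne hδ.le
      have h1 := hk (R ⧸ r) N hkN
      rw [LocH.subsingleton_sup_iff (R ⧸ r) (LocH.isPowerTorsion_quotient r), sup_comm,
        LocH.subsingleton_iff_of_radical_eq (hrad.trans (Ideal.IsPrime.isRadical inferInstance).radical.symm)] at h1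
      exact not_nontrivial_iff_subsingleton.2 h1
        (LocH.nontrivial_at_supportDim (R ⧸ r) N ((Module.supportDim_quotient_eq_ringKrullDim r).trans hN))
    · obtain ⟨x, hx, hxd⟩ := exists_mem_dim_lt hδ
      rw [sup_assoc] at hxd
      have hne' : r ⊔ (c ⊔ Ideal.span {x}) ≠ ⊤ := by rw [← sup_assoc]; exact sup_ne_top hne hx
      obtain ⟨e, he⟩ := exists_dim_quot hne'
      have hed : e ≤ δ := by rw [he] at hxd; exact_mod_cast hxd
      refine (ih e (by omega) r _ (k + 1) hne' (cdLE_sup_span hk x) he).trans ?_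
      exact_mod_cast (show e + (k + 1) ≤ δ + 1 + k by omega)

/-- The Faltings bound for a complete domain. -/
theorem dim_le_of_domain [IsDomain R] [IsAdicComplete (maximalIdeal R) R] {n : ℕ} (hn : ringKrullDim R = n) :
    ∀ (δ : ℕ) (a b : Ideal R) (k : ℕ), a ⊔ b ≠ ⊤ → ringKrullDim (R ⧸ (a ⊔ b)) = δ →
      (δ : WithBot ℕ∞) < ringKrullDim (R ⧸ a) → (δ : WithBot ℕ∞) < ringKrullDim (R ⧸ b) →
      LocCoh.CdLE R (a ⊓ b) k → n ≤ k + δ + 1 := by
  intro δ
  induction δ using Nat.strong_induction_on with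
  | _ δ ih =>
    intro a b k hne hδ ha hb hk
    obtain _ | δ := δ
    · by_contra hlt
      obtain ⟨e, rfl⟩ : ∃ e, n = e + 1 := ⟨n - 1, by omega⟩
      let J := injectiveResolution (ModuleCat.of R R)
      obtain ⟨cm, -, hker, -, -⟩ := LocH.mayerVietoris a b J
      have h1 : Subsingleton (LocCoh.H (a ⊓ b) e R) := hk R e (by omega)
      have h2 := subsingleton_H_of_domain R hn a (by exact_mod_cast ha)
      have h3 := subsingleton_H_of_domain R hn b (by exact_mod_cast hb)
      have h4 : Subsingleton (LocCoh.H (a ⊔ b) (e + 1) R) := subsingleton_of_forall_eq 0 fun y => by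
        have hy : y ∈ LinearMap.ker (LinearMap.prod
            ((Dual2.HmapOfLE (le_sup_left : a ≤ a ⊔ b) (e + 1)).app (ModuleCat.of R R)).hom
            ((Dual2.HmapOfLE (le_sup_right : b ≤ a ⊔ b) (e + 1)).app (ModuleCat.of R R)).hom) :=
          Prod.ext (h2.elim _ _) (h3.elim _ _)
        rw [hker] at hy
        obtain ⟨z, rfl⟩ := hy
        exact (congrArg _ (h1.elim z 0)).trans (map_zero _)
      rw [LocH.subsingleton_iff_of_radical_eq ((radical_eq_maximalIdeal hne hδ.le).trans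
        (Ideal.IsPrime.isRadical inferInstance).radical.symm)] at h4
      exact not_nontrivial_iff_subsingleton.2 h4
        (LocH.nontrivial_at_supportDim R (e + 1) ((Module.supportDim_self_eq_ringKrullDim (R := R)).trans hn))
    · obtain ⟨x, hx, hxd⟩ := exists_mem_dim_lt hδ
      let a' := a ⊔ Ideal.span {x}
      let b' := b ⊔ Ideal.span {x}
      have hab' : a' ⊔ b' = a ⊔ b ⊔ Ideal.span {x} := by
        show (a ⊔ Ideal.span {x}) ⊔ (b ⊔ Ideal.span {x}) = _
        rw [← sup_sup_distrib_right]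
      have hne' : a' ⊔ b' ≠ ⊤ := hab' ▸ sup_ne_top hne hx
      rw [← hab'] at hxd
      obtain ⟨e, he⟩ := exists_dim_quot hne'
      have hed : e ≤ δ := by rw [he] at hxd; exact_mod_cast hxd
      have hlt : ∀ c : Ideal R, c ≤ a ⊔ b → ((δ + 1 : ℕ) : WithBot ℕ∞) < ringKrullDim (R ⧸ c) →
          (e : WithBot ℕ∞) < ringKrullDim (R ⧸ (c ⊔ Ideal.span {x})) := fun c hc hlt => by
        obtain ⟨m, hm⟩ := exists_dim_quot (ne_top_of_le_ne_top hne hc)
        obtain ⟨m', hm'⟩ := exists_dim_quot (sup_ne_top (ne_top_of_le_ne_top hne hc) hx)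
        have h5 := dim_le_dim_sup_span_add_one c hx
        rw [hm, hm'] at h5
        rw [hm] at hlt
        rw [hm']
        have h6 : ((m : ℕ) : WithBot ℕ∞) ≤ ((m' + 1 : ℕ) : WithBot ℕ∞) := by push_cast; exact h5
        have h7 : m ≤ m' + 1 := by exact_mod_cast h6
        have h8 : δ + 1 < m := by exact_mod_cast hlt
        exact_mod_cast (show e < m' by omega)
      have hrad : ((a ⊓ b) ⊔ Ideal.span {x}).radical = (a' ⊓ b').radical := by
        refine le_antisymm (Ideal.radical_mono (le_inf (sup_le_sup_right inf_le_left _) (sup_le_sup_right inf_le_right _))) ?_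
        rw [Ideal.radical_inf (I := a') (J := b'), ← Ideal.radical_mul]
        refine Ideal.radical_mono ?_
        rw [Ideal.sup_mul, Ideal.mul_sup]
        exact sup_le (sup_le (le_sup_of_le_left Ideal.mul_le_inf) (le_sup_of_le_right Ideal.mul_le_right))
          (le_sup_of_le_right Ideal.mul_le_left)
      have := ih e (by omega) a' b' (k + 1) hne' he (hlt a le_sup_left ha) (hlt b le_sup_right hb)
        (cdLE_of_radical_eq hrad (cdLE_sup_span hk x))
      omega

end Groth.Agent.HLVT
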