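import Mathlib
import Groth.Agent.S0313
import Groth.Agent.S11681
import Groth.Agent.LocH.TopSocle
import Groth.Agent.LocH.TopTorsion
import Groth.Agent.LocH.FiniteH
import Groth.Agent.LocH.Depth
import Groth.Agent.LocH.ChangeRings
import Groth.Agent.Goren.Apps
import Groth.Agent.Goren.Equiv
import Groth.Agent.Catenary.CM
import Groth.Agent.Cohen.Structure
import Groth.Agent.ArtKit.PSRing
import Groth.Agent.EGA41FS.LiftUnique

/-!
Hartshorne–Lichtenbaum vanishing at a prime of dimension one.
-/

namespace Groth.Agent.HLVT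

universe u

open CategoryTheory IsLocalRing RingTheory.Sequence

theorem nonempty_equiv_of_le_radical {R : Type u} [CommRing R] [IsNoetherianRing R] {I I' : Ideal R} (h : I ≤ I')
    (h' : I' ≤ I.radical) (M : Type u) [AddCommGroup M] [Module R M] (i : ℕ) :
    Nonempty (LocCoh.H I' i M ≃ₗ[R] LocCoh.H I i M) := by
  have hv : ∀ (p : Ideal R) [p.IsPrime], I ≤ p → ¬ I' ≤ p → False := fun p hp h1 h2 =>
    h2 (h'.trans (hp.radical_le_iff.2 h1))
  exact ⟨LinearEquiv.ofBijective ((Dual2.HmapOfLE h i).app (ModuleCat.of R M)).hom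
    ⟨LocH.HmapOfLE_injective_of_vanish h (injectiveResolution _) i (fun p _ h1 h2 => (hv p h1 h2).elim),
      LocH.HmapOfLE_surjective_of_vanish h (injectiveResolution _) i (fun p _ h1 h2 => (hv p h1 h2).elim)⟩⟩

section Gor

variable {G : Type u} [CommRing G] [LocCoh.IsGorensteinLocalRing G]

/-- An endomorphism of the top local cohomology of a complete Gorenstein ring is a multiplication. -/
theorem exists_smul_eq [IsAdicComplete (maximalIdeal G) G] {d : ℕ} (hd : ringKrullDim G = d)
    (ψ : LocH.WeakDuality.Top G d →ₗ[G] LocH.WeakDuality.Top G d) : ∃ g : G, ∀ x, ψ x = g • x := by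
  obtain ⟨f, hf⟩ := LocH.WeakDuality.isInjectiveHull_top hd
  obtain ⟨e⟩ := S0313.result G (LocH.WeakDuality.Top G d) f hf
  obtain ⟨g, hg⟩ := AdicCompletion.of_surjective (maximalIdeal G) G (e ψ)
  refine ⟨g, fun x => ?_⟩
  have h : ψ = algebraMap G (Module.End G (LocH.WeakDuality.Top G d)) g := e.injective (by
    rw [AlgEquiv.commutes, ← hg]
    rfl)
  rw [h]
  rfl

theorem eq_zero_of_kill {d : ℕ} (hd : ringKrullDim G = d) {g : G}
    (h : ∀ x : LocH.WeakDuality.Top G d, g • x = 0) : g = 0 := by
  obtain ⟨f, hf⟩ := LocH.WeakDuality.isInjectiveHull_top hd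
  have h1 := ((S11681.result G (LocH.WeakDuality.Top G d) f hf).1 G).2
  have h2 : g ∈ Module.annihilator G (G →ₗ[G] LocH.WeakDuality.Top G d) :=
    Module.mem_annihilator.2 fun φ => LinearMap.ext fun x => h (φ x)
  rw [← h1, Module.mem_annihilator] at h2
  simpa using h2 1

theorem exists_hom_ne_zero {d : ℕ} (hd : ringKrullDim G = d) {M : Type u} [AddCommGroup M] [Module G M]
    {x : M} (hx : x ≠ 0) : ∃ φ : M →ₗ[G] LocH.WeakDuality.Top G d, φ x ≠ 0 := by
  obtain ⟨f, hf⟩ := LocH.WeakDuality.isInjectiveHull_top hd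
  by_contra! h
  refine hx (((S11681.result G (LocH.WeakDuality.Top G d) f hf).1 M).1 ?_)
  rw [map_zero]
  exact LinearMap.ext h

/-- A torsion module with finite socle on which a nonunit divides has no socle. -/
theorem eq_bot_of_divisible {T : Type u} [AddCommGroup T] [Module G T] (q : Ideal G) {b : G}
    (hb : b ∈ maximalIdeal G) (U : Submodule G T) (hinj : ∀ x : T, b • x = 0 → x = 0)
    (hdiv : ∀ x ∈ U, ∃ y ∈ U, b • y = x) (hfg : (Submodule.torsionBySet G T (q : Set G)).FG)
    (htors : ∀ x : T, ∃ n : ℕ, ∀ a ∈ q ^ n, a • x = 0) : U = ⊥ := by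
  let Z : Submodule G T := U ⊓ Submodule.torsionBySet G T (q : Set G)
  have hZfg : Z.FG := by
    haveI : Module.Finite G (Submodule.torsionBySet G T (q : Set G)) := Module.Finite.iff_fg.2 hfg
    exact Submodule.FG.of_le hfg inf_le_right
  have hZ : Z = ⊥ := by
    refine Submodule.eq_bot_of_le_smul_of_le_jacobson_bot (Ideal.span {b}) Z hZfg ?_ ?_
    · rintro x ⟨hxU, hxq⟩
      obtain ⟨y, hy, rfl⟩ := hdiv x hxU
      refine Submodule.smul_mem_smul (Ideal.mem_span_singleton_self b) ⟨hy, ?_⟩
      rw [SetLike.mem_coe, Submodule.mem_torsionBySet_iff] at hxq ⊢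
      exact fun a => hinj _ (by rw [smul_comm]; exact hxq a)
    · rw [IsLocalRing.jacobson_eq_maximalIdeal _ bot_ne_top, Ideal.span_singleton_le_iff_mem]
      exact hb
  rw [Submodule.eq_bot_iff]
  have key : ∀ (n : ℕ) (x : T), x ∈ U → (∀ a ∈ q ^ n, a • x = 0) → x = 0 := by
    intro n
    induction n with
    | zero => intro x _ h; simpa using h 1 (by simp)
    | succ n ih =>
      intro x hx h
      refine ih x hx fun a ha => ?_
      have hmem : a • x ∈ Z := ⟨U.smul_mem a hx, (Submodule.mem_torsionBySet_iff _ _).2 fun c => by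
        rw [← mul_smul]
        exact h _ (by rw [pow_succ']; exact Ideal.mul_mem_mul c.2 ha)⟩
      rw [hZ] at hmem
      exact (Submodule.mem_bot G).1 hmem
  intro x hx
  obtain ⟨n, hn⟩ := htors x
  exact key n x hx hn

/-- If a multiplication kills the top cohomology at a maximal chain end, it kills the one below. -/
theorem smul_H_eq_zero {e : ℕ} (hd : ringKrullDim G = (e + 1 : ℕ)) (q : Ideal G) [q.IsPrime]
    (hq : ringKrullDim (G ⧸ q) = 1) {b : G} (hb : b ∈ maximalIdeal G) (hbq : b ∉ q) (g : G)
    (hg : ∀ x : LocCoh.H (q ⊔ Ideal.span {b}) (e + 1) G,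
      (Dual2.HmapOfLE (le_sup_left : q ≤ q ⊔ Ideal.span {b}) (e + 1)).app (ModuleCat.of G G) x = 0 → g • x = 0) :
    q.height = e ∧ ∀ x : LocCoh.H q e G, g • x = 0 := by
  haveI := Goren.isCohenMacaulay G
  have hht : q.height = e := by
    have h := Catenary.height_add_dim q
    rw [hq, hd] at h
    cases hq' : q.height with
    | top => exact absurd hq' (Ideal.height_ne_top (Ideal.IsPrime.ne_top inferInstance))
    | coe k =>
      rw [hq'] at h
      have h2 : ((1 + k : ℕ) : WithBot ℕ∞) = ((e + 1 : ℕ) : WithBot ℕ∞) := by rw [← h]; push_cast; rfl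
      have h3 : 1 + k = e + 1 := by exact_mod_cast h2
      exact_mod_cast congrArg (fun j : ℕ => (j : ℕ∞)) (show k = e by omega)
  refine ⟨hht, ?_⟩
  obtain ⟨rs, hw, hmem, hlen⟩ := CMFlat.exists_regular_of_prime (e + 1) G hd q
  rw [hht, Nat.cast_le] at hlen
  have hlow : ∀ i, i < e → Module.Finite G (LocCoh.H q i G) := fun i hi => by
    haveI := LocH.subsingleton_of_isWeaklyRegular q rs G hw hmem i (hi.trans_le hlen)
    infer_instance
  have hfg := LocH.fg_socle q e G hlow
  let J := injectiveResolution (ModuleCat.of G G)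
  let L0 : ModuleCat.{u} G := ModuleCat.of G (LocalizedModule (Submonoid.powers b) G)
  let m0 : ModuleCat.of G G ⟶ L0 := ModuleCat.ofHom (LocalizedModule.mkLinearMap (Submonoid.powers b) G)
  haveI : IsLocalizedModule (Submonoid.powers b) m0.hom := by
    show IsLocalizedModule _ (LocalizedModule.mkLinearMap (Submonoid.powers b) G)
    infer_instance
  let f : LocCoh.H q e G →ₗ[G] ↑((localCohomology q e).obj L0) := ((localCohomology q e).map m0).hom
  haveI : IsLocalizedModule (Submonoid.powers b) f := LocH.isLocalizedModule_map q e b m0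
  obtain ⟨E⟩ := LocH.nonempty_coker_equiv_ker J q b e f
  have hsub : Subsingleton (LocCoh.H (q ⊔ Ideal.span {b}) e G) := by
    obtain ⟨rs', hw', hmem', hlen'⟩ := CMFlat.exists_regular_of_prime (e + 1) G hd (maximalIdeal G)
    have hrad : (q ⊔ Ideal.span {b}).radical = maximalIdeal G := by
      refine le_antisymm ?_ ?_
      · refine Ideal.IsRadical.radical_le_iff (Ideal.IsPrime.isRadical inferInstance) |>.2 ?_
        exact sup_le (le_maximalIdeal (Ideal.IsPrime.ne_top inferInstance))
          ((Ideal.span_singleton_le_iff_mem _).2 hb)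
      · rw [Ideal.radical_eq_sInf]
        refine le_sInf fun P ⟨hle, hP⟩ => ?_
        haveI := hP
        have hqP : q < P := lt_of_le_of_ne (le_sup_left.trans hle) fun h =>
          hbq (h ▸ hle (Ideal.mem_sup_right (Ideal.mem_span_singleton_self b)))
        by_contra hne
        have hPm : P < maximalIdeal G := lt_of_le_of_ne (le_maximalIdeal hP.ne_top) fun h => hne h.ge
        have h1 := Catenary.height_add_dim (maximalIdeal G)
        have h2 := Ideal.height_strict_mono_of_isPrime hqP
        have h3 := Ideal.height_strict_mono_of_isPrime hPm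
        have h4 : (maximalIdeal G).height ≤ ((e + 1 : ℕ) : ℕ∞) := by
          have h5 := Ideal.height_le_ringKrullDim_of_isPrime (I := maximalIdeal G)
          rw [hd] at h5
          exact_mod_cast h5
        have h6 : P.height < ((e + 1 : ℕ) : ℕ∞) := h3.trans_le h4
        have h7 : (e : ℕ∞) + 1 ≤ P.height := Order.add_one_le_of_lt (hht ▸ h2)
        exact absurd (h7.trans_lt h6) (by push_cast; exact lt_irrefl _)
    have hlen'' : e + 1 ≤ rs'.length := by
      have h1 := Catenary.height_add_dim (maximalIdeal G)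
      have h2 : ringKrullDim (G ⧸ maximalIdeal G) = 0 :=
        ringKrullDim_eq_zero_of_isField ((Ideal.Quotient.maximal_ideal_iff_isField_quotient _).1 inferInstance)
      rw [h2, zero_add, hd] at h1
      have h3 : (maximalIdeal G).height = ((e + 1 : ℕ) : ℕ∞) := by exact_mod_cast h1
      rw [h3] at hlen'
      exact_mod_cast hlen'
    refine (LocH.subsingleton_iff_of_radical_eq (hrad.trans (Ideal.IsPrime.isRadical inferInstance).radical.symm) G e).2 ?_
    exact LocH.subsingleton_of_isWeaklyRegular _ rs' G hw' hmem' e (by omega)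
  have hinjb : ∀ x : LocCoh.H q e G, b • x = 0 → x = 0 := fun x hx => by
    obtain ⟨y, rfl⟩ := (LocH.mem_range_HmapOfLE_iff J q b e x).2 ⟨1, by rwa [pow_one]⟩
    exact (congrArg _ (hsub.elim y 0)).trans (map_zero _)
  have hinjf : Function.Injective f := by
    refine (injective_iff_map_eq_zero f).2 fun x hx => ?_
    obtain ⟨⟨_, n, rfl⟩, hn⟩ := (IsLocalizedModule.eq_zero_iff (Submonoid.powers b) f).1 hx
    change b ^ n • x = 0 at hn
    clear hx
    induction n with
    | zero => rwa [pow_zero, one_smul] at hn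
    | succ n ih => exact ih (hinjb _ (by rwa [← mul_smul, ← pow_succ']))
  have hgL : ∀ y, g • y ∈ LinearMap.range f := fun y => by
    have h0 : g • E (Submodule.Quotient.mk y) = 0 :=
      Subtype.ext (hg _ (LinearMap.mem_ker.1 (E (Submodule.Quotient.mk y)).2))
    rw [← map_smul, LinearEquiv.map_eq_zero_iff, ← Submodule.Quotient.mk_smul, Submodule.Quotient.mk_eq_zero] at h0
    exact h0
  let U : Submodule G (LocCoh.H q e G) := (LinearMap.range (g • (LinearMap.id : _ →ₗ[G] ↑((localCohomology q e).obj L0)))).comap f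
  have hU : U = ⊥ := by
    refine eq_bot_of_divisible q hb U hinjb (fun x hx => ?_) hfg fun x => LocH.isPowerTorsion q e _ x
    obtain ⟨y, hy⟩ := hx
    change g • y = f x at hy
    have hu := (Module.End.isUnit_iff _).1 (IsLocalizedModule.map_units f ⟨b, Submonoid.mem_powers b⟩)
    obtain ⟨y', hy'⟩ := hu.2 y
    change b • y' = y at hy'
    obtain ⟨x', hx'⟩ := hgL y'
    refine ⟨x', ⟨y', hx'.symm⟩, hinjf ?_⟩
    rw [map_smul, hx', smul_comm, hy', hy]
  intro x
  have hx : g • x ∈ U := ⟨f x, (map_smul f g x).symm⟩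
  rw [hU] at hx
  exact (Submodule.mem_bot G).1 hx

/-- Vanishing at a prime of dimension one on the quotient by a smaller prime. -/
theorem subsingleton_H_quotient [IsAdicComplete (maximalIdeal G) G] {e : ℕ} (hd : ringKrullDim G = (e + 1 : ℕ))
    (q : Ideal G) [q.IsPrime] (hq : ringKrullDim (G ⧸ q) = 1) (P : Ideal G) [P.IsPrime] (hPq : P ≤ q) :
    Subsingleton (LocCoh.H q (e + 1) (G ⧸ P)) := by
  haveI := Goren.isCohenMacaulay G
  obtain ⟨b, hb, hbq⟩ : ∃ b ∈ maximalIdeal G, b ∉ q := by
    by_contra! h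
    have he : q = maximalIdeal G := le_antisymm (le_maximalIdeal (Ideal.IsPrime.ne_top inferInstance)) h
    subst he
    rw [ringKrullDim_eq_zero_of_isField ((Ideal.Quotient.maximal_ideal_iff_isField_quotient _).1 inferInstance)] at hq
    exact zero_ne_one hq
  let π := ((Dual2.HmapOfLE (le_sup_left : q ≤ q ⊔ Ideal.span {b}) (e + 1)).app (ModuleCat.of G G)).hom
  let ρ := ((localCohomology q (e + 1)).map (ModuleCat.ofHom P.mkQ : ModuleCat.of G G ⟶ ModuleCat.of G (G ⧸ P))).hom
  have hρ : Function.Surjective ρ := LocH.map_surjective_of_surjective (I := q) P.mkQ P.mkQ_surjective (e + 1)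
    ((Module.supportDim_self_eq_ringKrullDim (R := G)).trans hd |>.trans_lt (by exact_mod_cast Nat.lt_succ_self (e + 1)))
  have hπ : Function.Surjective π := fun x => (LocH.mem_range_HmapOfLE_iff (injectiveResolution _) q b (e + 1) x).2
    (LocH.exists_pow_smul_top_eq_zero hd q G hb x)
  refine subsingleton_of_forall_eq 0 fun w => ?_
  by_contra hw
  obtain ⟨φ, hφ⟩ := exists_hom_ne_zero hd hw
  -- identify the cohomology on `q + (b)` with the top local cohomology
  have hrad : (q ⊔ Ideal.span {b}).radical = maximalIdeal G := by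
    refine le_antisymm ((Ideal.IsPrime.isRadical inferInstance).radical_le_iff.2
      (sup_le (le_maximalIdeal (Ideal.IsPrime.ne_top inferInstance)) ((Ideal.span_singleton_le_iff_mem _).2 hb))) ?_
    rw [Ideal.radical_eq_sInf]
    refine le_sInf fun Q ⟨hle, hQ⟩ => ?_
    haveI := hQ
    by_contra hne
    have hqQ : q < Q := lt_of_le_of_ne (le_sup_left.trans hle) fun h =>
      hbq (h ▸ hle (Ideal.mem_sup_right (Ideal.mem_span_singleton_self b)))
    have hQm : Q < maximalIdeal G := lt_of_le_of_ne (le_maximalIdeal hQ.ne_top) fun h => hne h.ge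
    have h1 := Catenary.height_add_dim q
    have h2 := Catenary.height_add_dim (maximalIdeal G)
    rw [ringKrullDim_eq_zero_of_isField ((Ideal.Quotient.maximal_ideal_iff_isField_quotient _).1 inferInstance), zero_add] at h2
    rw [hq, ← h2] at h1
    have h3 : (maximalIdeal G).height = 1 + q.height := by exact_mod_cast h1.symm
    have h4 : q.height + 1 < (maximalIdeal G).height :=
      (Order.add_one_le_of_lt (Ideal.height_strict_mono_of_isPrime hqQ)).trans_lt (Ideal.height_strict_mono_of_isPrime hQm)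
    rw [h3, add_comm] at h4
    exact lt_irrefl _ h4
  obtain ⟨θ'⟩ := nonempty_equiv_of_le_radical
    (sup_le (le_maximalIdeal (Ideal.IsPrime.ne_top inferInstance)) ((Ideal.span_singleton_le_iff_mem _).2 hb) :
      q ⊔ Ideal.span {b} ≤ maximalIdeal G) hrad.ge G (e + 1)
  let θ := θ'.symm
  obtain ⟨g, hg⟩ := exists_smul_eq hd ((φ ∘ₗ ρ ∘ₗ π) ∘ₗ θ.symm.toLinearMap)
  have hg' : ∀ x, φ (ρ (π x)) = g • θ x := fun x => by
    have := hg (θ x)
    simpa using this
  have hg0 : g ≠ 0 := by
    intro h
    obtain ⟨y, rfl⟩ := hρ w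
    obtain ⟨x, rfl⟩ := hπ y
    exact hφ ((hg' x).trans (by rw [h, zero_smul]))
  have hPg : ∀ p ∈ P, p * g = 0 := fun p hp => eq_zero_of_kill hd fun z => by
    obtain ⟨x, rfl⟩ := θ.surjective z
    rw [mul_smul, ← hg', ← map_smul]
    have : p • ρ (π x) = 0 := LocH.smul_eq_zero_of_smul_eq_zero (M := ModuleCat.of G (G ⧸ P))
      (fun v => by
        obtain ⟨v, rfl⟩ := Ideal.Quotient.mk_surjective v
        exact Ideal.Quotient.eq_zero_iff_mem.2 (Ideal.mul_mem_right _ _ hp)) (e + 1) _
    rw [this, map_zero]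
  obtain ⟨hht, hkill⟩ := smul_H_eq_zero hd q hq hb hbq g fun x hx => θ.injective (by
    rw [map_smul, ← hg', map_zero, show π x = 0 from hx, map_zero, map_zero])
  -- localise at `q`
  let Gq := Localization.AtPrime q
  haveI : LocCoh.IsGorensteinLocalRing Gq :=
    (Goren.isGorensteinRing_of_local G).isGorensteinLocalRing_localization q
  haveI := IsLocalization.flat Gq q.primeCompl
  have hdq : ringKrullDim Gq = e := by
    rw [IsLocalization.AtPrime.ringKrullDim_eq_height q Gq, hht]
    rfl
  obtain ⟨ε⟩ := CechX.nonempty_H_baseChange (R' := Gq) q (ModuleCat.of G G) e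
  have hkill' : ∀ z : LocCoh.H (q.map (algebraMap G Gq)) e (TensorProduct G Gq G), algebraMap G Gq g • z = 0 := fun z => by
    obtain ⟨t, rfl⟩ := ε.surjective z
    refine (map_smul ε _ t).symm.trans ((congrArg ε ?_).trans (map_zero ε))
    rw [algebraMap_smul]
    induction t using TensorProduct.induction_on with
    | zero => exact smul_zero _
    | tmul a y => rw [TensorProduct.smul_tmul', TensorProduct.smul_tmul, hkill y, TensorProduct.tmul_zero]
    | add c d hc hd => rw [smul_add, hc, hd, add_zero]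
  have hg1 : algebraMap G Gq g = 0 := by
    refine eq_zero_of_kill hdq fun z => ?_
    let ι : ModuleCat.of Gq (TensorProduct G Gq G) ≅ ModuleCat.of Gq Gq :=
      (TensorProduct.AlgebraTensorModule.rid G Gq Gq).toModuleIso
    obtain ⟨z', rfl⟩ : ∃ z', (localCohomology (maximalIdeal Gq) e).map ι.hom z' = z :=
      ⟨(localCohomology (maximalIdeal Gq) e).map ι.inv z, by
        rw [← ConcreteCategory.comp_apply, ← Functor.map_comp, ι.inv_hom_id, CategoryTheory.Functor.map_id]
        rfl⟩
    have key : ∀ K, K = maximalIdeal Gq →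
        ∀ z : LocCoh.H K e (TensorProduct G Gq G), algebraMap G Gq g • z = 0 := by
      rintro K rfl
      revert hkill'
      rw [Localization.AtPrime.map_eq_maximalIdeal]
      exact fun h => h
    rw [← map_smul]
    exact (congrArg _ (key _ rfl z')).trans (map_zero _)
  obtain ⟨⟨s, hs⟩, hsg⟩ := (IsLocalization.map_eq_zero_iff q.primeCompl Gq g).1 hg1
  change s * g = 0 at hsg
  obtain ⟨Q, hQ, hQle⟩ := exists_le_isAssociatedPrime_of_isNoetherianRing G g hg0
  have hmem : ∀ {a : G}, a * g = 0 → a ∈ Q := fun {a} ha => hQle (Submodule.mem_colon_singleton.2 ((Submodule.mem_bot G).2 ha))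
  have hQmin := CMFlat.associatedPrimes_subset_minimalPrimes G hQ
  have hPQ : P ≤ Q := fun p hp => hmem (hPg p hp)
  exact hs (hPq (hQmin.2 ⟨inferInstance, bot_le⟩ hPQ (hmem hsg)))

end Gor

end Groth.Agent.HLVT
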